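import Cfsg.Agent.Lib.RuAut.Invol.Defs

/-! Computations for the involutions of the double cover of the Rudvalis group. -/

set_option autoImplicit false
set_option maxRecDepth 100000

namespace CfsgLib.RuAut.Invol

open CfsgLib CfsgLib.RuAut CfsgLib.RuAut.Mult

theorem h_words : (hW.all wordB && Nat.beq hW.length 15) = true := by decide +kernel

theorem rel_checks : (List.range 15).all relB = true := by decide +kernel

theorem level_checks : (List.range 15).all levelB = true := by decide +kernel

theorem top_check : repsTab.getD 15 [] = [[]] := rfl

theorem final_checks : (List.range (repsTab.getD 0 []).length).all finalB = true := by decide +kernel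

theorem sift_check : (siftB hW 15 siftW && Nat.beq (siftN siftW) 32768) = true := by decide +kernel

theorem minus_check : eqV (flat hW (tgtW.getD 1 [])) negW = true := by decide +kernel

theorem central_checks : ((List.range 15).all fun j =>
    eqH ([j] ++ tgtW.getD 2 []) (tgtW.getD 2 [] ++ [j]) && eqH ([j] ++ tgtW.getD 3 []) (tgtW.getD 3 [] ++ [j]) &&
      eqH ([j] ++ tgtW.getD 1 []) (tgtW.getD 1 [] ++ [j])) = true := by decide +kernel

theorem tgt_below : (tgtW.all (below 15)) = true := by decide +kernel

theorem wit_below : (witW.all fun w => w.all (below 15)) = true := by decide +kernel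

theorem wit_checks : ((List.range 2).all fun k =>
    eqV (tripleW k ++ tripleW k) (flat hW (tgtW.getD (k + 2) []))) = true := by decide +kernel

theorem no_root : (subs 9).all sqNeB = true := by decide +kernel

end CfsgLib.RuAut.Invol
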