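import Cfsg.Agent.Lib.RuAut.Mult.Eval

/-! Generated data: a Sylow 2-subgroup of the double cover and its involutions. -/

set_option autoImplicit false

namespace CfsgLib.RuAut.Invol

/-- Words of the pc generators. -/
noncomputable def hW : List (List ℕ) :=
  [[5, 3, 2, 4, 3, 5, 0, 2, 4, 0, 5, 4, 2, 4],
  [3, 2, 2, 1, 0, 2, 4, 5, 1, 5, 1, 3, 5, 0, 4, 5],
  [3, 3, 3, 3, 4, 3, 3, 4, 4, 4, 2, 3, 3, 2, 2, 1, 1, 5],
  [3, 1, 3, 3, 5, 3, 2, 1, 1, 1, 5, 0, 5, 5, 0, 1],
  [3, 4, 3, 1, 2, 0, 2, 0, 0, 0, 5, 5, 0, 2, 2, 0, 1],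
  [0, 4, 5, 4, 5, 4, 0, 2, 4, 2, 1, 3, 1, 0, 5, 5],
  [3, 1, 1, 1, 5, 5, 4, 0, 4, 2, 1, 1, 1, 3, 1, 5, 1],
  [3, 4, 5, 0, 5, 5, 3, 2, 0, 2, 0, 0, 0, 4, 5, 4],
  [5, 0, 1, 2, 3, 5, 0, 0, 5, 0, 4, 2, 4, 3, 5, 3, 2],
  [5, 1, 3, 4, 2, 3, 1, 5, 0, 1, 1, 2, 1, 3, 2, 4, 4],
  [3, 5, 0, 2, 3, 3, 3, 4, 5, 3, 1, 2, 3, 2, 4, 0],
  [4, 4, 3, 1, 5, 3, 5, 0, 1, 1, 0, 4, 2, 3, 1, 2, 3],
  [0, 2, 1, 5, 1, 3, 1, 2, 1, 5, 1, 5, 5, 3, 5, 5],
  [3, 4, 5, 0, 1, 2, 4, 3, 4, 0, 1, 1, 3, 5, 0],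
  [5, 1, 2, 1, 0, 4, 3, 2, 3, 5, 0, 1, 5, 4, 2, 1]]

/-- Squares of the pc generators. -/
noncomputable def sqW : List (List ℕ) :=
  [[],
  [],
  [],
  [],
  [],
  [0],
  [],
  [2, 3, 4],
  [0, 2, 3, 4],
  [0, 1],
  [0, 1, 3, 4],
  [0],
  [0, 1, 2, 3],
  [1, 8],
  [0, 1, 2, 3, 4, 8, 11]]

/-- Commutators of the pc generators. -/
noncomputable def comW : List (List ℕ) :=
  [[],
  [],
  [],
  [],
  [],
  [],
  [],
  [],
  [],
  [],
  [],
  [],
  [],
  [],
  [],
  [],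
  [],
  [],
  [],
  [],
  [0],
  [],
  [],
  [],
  [],
  [],
  [0, 1],
  [0],
  [],
  [],
  [],
  [0],
  [0],
  [],
  [0],
  [0, 2],
  [],
  [],
  [],
  [0, 1],
  [0, 1],
  [1, 2],
  [0, 2],
  [0, 2],
  [1],
  [],
  [],
  [],
  [0, 1],
  [0, 1],
  [],
  [2],
  [1, 2, 3, 4],
  [1, 2, 3, 4],
  [1, 2, 3, 4],
  [],
  [],
  [0],
  [],
  [0],
  [0],
  [0],
  [0, 1, 3],
  [2, 3, 4],
  [0, 1, 3, 5, 6],
  [0, 5],
  [],
  [],
  [0, 1],
  [0, 1],
  [],
  [1, 2, 3],
  [0, 1, 2, 3],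
  [0, 1, 4],
  [0, 1, 2, 3, 5, 6],
  [1, 2],
  [0, 1, 4, 5, 7],
  [0, 5, 6],
  [],
  [],
  [0],
  [2],
  [0, 2],
  [1, 2, 3, 4],
  [0, 3, 4],
  [1, 2, 3],
  [],
  [2, 3, 5, 6],
  [0, 3, 4, 5],
  [0, 2, 8],
  [9],
  [],
  [0],
  [0, 1],
  [1],
  [],
  [2, 3, 4],
  [1, 2, 3],
  [2, 3, 4, 6],
  [0, 1, 5],
  [1, 2, 3, 5, 6, 7, 8],
  [0, 1, 8],
  [1, 5],
  [2, 3, 4, 6, 8, 11],
  [10]]

/-- Representatives. -/
noncomputable def reps15 : List (List ℕ) :=
  [[]]

/-- Representatives. -/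
noncomputable def reps14 : List (List ℕ) :=
  [[],
  [14]]

/-- Representatives. -/
noncomputable def reps13 : List (List ℕ) :=
  [[],
  [13],
  [14],
  [14, 13]]

/-- Representatives. -/
noncomputable def reps12 : List (List ℕ) :=
  [[],
  [12],
  [13],
  [13, 12],
  [14],
  [14, 12],
  [14, 13],
  [14, 13, 12]]

/-- Representatives. -/
noncomputable def reps11 : List (List ℕ) :=
  [[],
  [11],
  [12],
  [13],
  [13, 11],
  [13, 12],
  [14, 12],
  [14, 13, 12]]

/-- Representatives. -/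
noncomputable def reps10 : List (List ℕ) :=
  [[],
  [10],
  [11],
  [11, 10],
  [12],
  [12, 10],
  [13],
  [13, 11],
  [13, 12],
  [13, 12, 10],
  [14, 12]]

/-- Representatives. -/
noncomputable def reps9 : List (List ℕ) :=
  [[],
  [9],
  [10],
  [10, 9],
  [11],
  [11, 9],
  [11, 10],
  [11, 10, 9],
  [12],
  [12, 10],
  [13],
  [13, 11],
  [14, 12],
  [14, 12, 9]]

/-- Representatives. -/
noncomputable def reps8 : List (List ℕ) :=
  [[],
  [8],
  [9],
  [10],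
  [10, 9],
  [10, 9, 8],
  [11],
  [11, 9],
  [11, 10],
  [11, 10, 9],
  [12],
  [12, 8],
  [12, 10],
  [12, 10, 8],
  [13, 11],
  [14, 12]]

/-- Representatives. -/
noncomputable def reps7 : List (List ℕ) :=
  [[],
  [7],
  [8],
  [8, 7],
  [9],
  [9, 7],
  [10],
  [10, 9],
  [10, 9, 8],
  [11],
  [11, 7],
  [11, 9],
  [11, 10],
  [11, 10, 9],
  [12],
  [12, 8],
  [13, 11],
  [13, 11, 7],
  [14, 12],
  [14, 12, 7]]

/-- Representatives. -/
noncomputable def reps6 : List (List ℕ) :=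
  [[],
  [6],
  [7],
  [8],
  [8, 7],
  [9],
  [9, 7],
  [10],
  [10, 6],
  [10, 9],
  [10, 9, 8],
  [11],
  [11, 7],
  [11, 10],
  [12],
  [13, 11],
  [13, 11, 6],
  [13, 11, 7],
  [13, 11, 7, 6],
  [14, 12, 7]]

/-- Representatives. -/
noncomputable def reps5 : List (List ℕ) :=
  [[],
  [5],
  [6],
  [6, 5],
  [7],
  [7, 5],
  [8],
  [8, 7],
  [8, 7, 5],
  [9],
  [9, 5],
  [9, 7],
  [9, 7, 5],
  [10],
  [10, 6],
  [10, 9],
  [10, 9, 5],
  [10, 9, 8],
  [10, 9, 8, 5],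
  [11],
  [11, 7],
  [12],
  [12, 5],
  [13, 11],
  [13, 11, 5],
  [13, 11, 6],
  [13, 11, 6, 5],
  [13, 11, 7],
  [13, 11, 7, 5],
  [13, 11, 7, 6],
  [13, 11, 7, 6, 5],
  [14, 12, 7],
  [14, 12, 7, 5]]

/-- Representatives. -/
noncomputable def reps4 : List (List ℕ) :=
  [[],
  [4],
  [5],
  [6],
  [6, 5],
  [8, 7],
  [8, 7, 5],
  [9],
  [9, 5],
  [10, 9],
  [10, 9, 5],
  [10, 9, 8],
  [10, 9, 8, 5],
  [11],
  [12],
  [12, 5],
  [13, 11],
  [13, 11, 6, 5],
  [13, 11, 7, 5],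
  [13, 11, 7, 6],
  [14, 12, 7, 5]]

/-- Representatives. -/
noncomputable def reps3 : List (List ℕ) :=
  [[],
  [3],
  [4],
  [4, 3],
  [5],
  [6],
  [6, 5],
  [6, 5, 3],
  [8, 7],
  [8, 7, 5],
  [8, 7, 5, 3],
  [9],
  [9, 3],
  [9, 5],
  [10, 9],
  [10, 9, 3],
  [10, 9, 5],
  [10, 9, 8],
  [10, 9, 8, 5],
  [10, 9, 8, 5, 3],
  [11],
  [12, 5],
  [13, 11],
  [13, 11, 3],
  [13, 11, 6, 5],
  [13, 11, 6, 5, 3],
  [13, 11, 7, 5],
  [13, 11, 7, 5, 3],
  [13, 11, 7, 6],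
  [13, 11, 7, 6, 3],
  [14, 12, 7, 5],
  [14, 12, 7, 5, 3]]

/-- Representatives. -/
noncomputable def reps2 : List (List ℕ) :=
  [[],
  [2],
  [3],
  [4],
  [4, 3],
  [4, 3, 2],
  [5],
  [6],
  [6, 5],
  [6, 5, 3],
  [9],
  [9, 3],
  [10, 9, 5],
  [10, 9, 8, 5],
  [10, 9, 8, 5, 3],
  [11],
  [11, 2],
  [12, 5],
  [12, 5, 2],
  [13, 11, 3],
  [13, 11, 6, 5],
  [13, 11, 7, 5, 3],
  [13, 11, 7, 6],
  [14, 12, 7, 5],
  [14, 12, 7, 5, 3]]

/-- Representatives. -/
noncomputable def reps1 : List (List ℕ) :=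
  [[],
  [1],
  [2],
  [3],
  [4],
  [4, 3],
  [4, 3, 2],
  [4, 3, 2, 1],
  [5],
  [6],
  [6, 1],
  [6, 5],
  [6, 5, 3],
  [9, 3],
  [10, 9, 5],
  [10, 9, 8, 5],
  [10, 9, 8, 5, 1],
  [10, 9, 8, 5, 3],
  [11],
  [11, 2],
  [11, 2, 1],
  [12, 5],
  [13, 11, 6, 5],
  [14, 12, 7, 5],
  [14, 12, 7, 5, 1],
  [14, 12, 7, 5, 3],
  [14, 12, 7, 5, 3, 1]]

/-- Representatives. -/
noncomputable def reps0 : List (List ℕ) :=
  [[],
  [0],
  [1],
  [2],
  [3],
  [4],
  [4, 3],
  [4, 3, 2],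
  [4, 3, 2, 1],
  [4, 3, 2, 1, 0],
  [6],
  [6, 1],
  [6, 5],
  [6, 5, 3],
  [9, 3],
  [9, 3, 0],
  [10, 9, 8, 5],
  [10, 9, 8, 5, 1],
  [11, 2],
  [11, 2, 1],
  [12, 5],
  [12, 5, 0],
  [13, 11, 6, 5],
  [13, 11, 6, 5, 0],
  [14, 12, 7, 5, 1],
  [14, 12, 7, 5, 3, 1]]

/-- All representatives. -/
noncomputable def repsTab : List (List (List ℕ)) :=
  [reps0, reps1, reps2, reps3, reps4, reps5, reps6, reps7, reps8, reps9, reps10, reps11, reps12, reps13, reps14, reps15]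

/-- Fates of the extensions. -/
noncomputable def node14 : List (Bool × List ℕ × List ℕ × ℕ) :=
  [(false, [], [], 0),
  (false, [], [], 1)]

/-- Fates of the extensions. -/
noncomputable def node13 : List (Bool × List ℕ × List ℕ × ℕ) :=
  [(false, [], [], 0),
  (false, [], [], 1),
  (false, [], [], 2),
  (false, [], [], 3)]

/-- Fates of the extensions. -/
noncomputable def node12 : List (Bool × List ℕ × List ℕ × ℕ) :=
  [(false, [], [], 0),
  (false, [], [], 1),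
  (false, [], [], 2),
  (false, [], [], 3),
  (false, [], [], 4),
  (false, [], [], 5),
  (false, [], [], 6),
  (false, [], [], 7)]

/-- Fates of the extensions. -/
noncomputable def node11 : List (Bool × List ℕ × List ℕ × ℕ) :=
  [(false, [], [], 0),
  (false, [], [], 1),
  (false, [], [], 2),
  (false, [14], [0, 2, 3, 5, 6, 8], 2),
  (false, [], [], 3),
  (false, [], [], 4),
  (false, [], [], 5),
  (false, [14], [4, 5, 7, 10], 5),
  (true, [0, 1, 2, 3, 4, 8], [], 11),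
  (true, [5, 8], [], 11),
  (false, [], [], 6),
  (false, [12], [1, 4, 5, 8], 6),
  (true, [0, 1, 2, 8, 10], [], 11),
  (true, [0, 5, 10], [], 11),
  (false, [], [], 7),
  (false, [12], [1, 6, 9], 7)]

/-- Fates of the extensions. -/
noncomputable def node10 : List (Bool × List ℕ × List ℕ × ℕ) :=
  [(false, [], [], 0),
  (false, [], [], 1),
  (false, [], [], 2),
  (false, [], [], 3),
  (false, [], [], 4),
  (false, [], [], 5),
  (false, [], [], 6),
  (false, [14], [3, 4, 5], 6),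
  (false, [], [], 7),
  (false, [14], [1, 3, 4, 5], 7),
  (false, [], [], 8),
  (false, [], [], 9),
  (false, [], [], 10),
  (false, [13], [1, 3, 7, 8, 9], 10),
  (true, [4, 5, 8, 9], [], 10),
  (true, [0, 2, 4, 5, 6, 7, 9], [], 10)]

/-- Fates of the extensions. -/
noncomputable def node9 : List (Bool × List ℕ × List ℕ × ℕ) :=
  [(false, [], [], 0),
  (false, [], [], 1),
  (false, [], [], 2),
  (false, [], [], 3),
  (false, [], [], 4),
  (false, [], [], 5),
  (false, [], [], 6),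
  (false, [], [], 7),
  (false, [], [], 8),
  (false, [13], [2], 8),
  (false, [], [], 9),
  (false, [13], [0, 2, 3, 4, 5], 9),
  (false, [], [], 10),
  (false, [12], [2, 3, 5, 6], 10),
  (false, [], [], 11),
  (false, [12], [2, 5, 6], 11),
  (true, [1, 5, 6, 8], [], 9),
  (true, [0, 1, 3, 8], [], 9),
  (true, [1, 5, 6, 7, 8], [], 9),
  (true, [4, 7, 8], [], 9),
  (false, [], [], 12),
  (false, [], [], 13)]

/-- Fates of the extensions. -/
noncomputable def node8 : List (Bool × List ℕ × List ℕ × ℕ) :=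
  [(false, [], [], 0),
  (false, [], [], 1),
  (false, [], [], 2),
  (false, [14], [0, 1, 4, 5, 7], 2),
  (false, [], [], 3),
  (false, [14], [2, 3, 4], 3),
  (false, [], [], 4),
  (false, [], [], 5),
  (false, [], [], 6),
  (false, [13], [0, 3, 4], 6),
  (false, [], [], 7),
  (false, [13], [0, 2, 4, 5, 6], 7),
  (false, [], [], 8),
  (false, [13], [5], 8),
  (false, [], [], 9),
  (false, [13], [0, 1, 3, 6], 9),
  (false, [], [], 10),
  (false, [], [], 11),
  (false, [], [], 12),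
  (false, [], [], 13),
  (true, [1], [], 8),
  (true, [0, 1, 2, 3, 4], [], 8),
  (false, [], [], 14),
  (false, [13], [0, 3, 4], 14),
  (false, [], [], 15),
  (false, [9], [4, 5, 6, 7], 15),
  (true, [0, 1, 2, 3, 5, 7], [], 8),
  (true, [1, 3, 5, 6, 7], [], 8)]

/-- Fates of the extensions. -/
noncomputable def node7 : List (Bool × List ℕ × List ℕ × ℕ) :=
  [(false, [], [], 0),
  (false, [], [], 1),
  (false, [], [], 2),
  (false, [], [], 3),
  (false, [], [], 4),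
  (false, [], [], 5),
  (false, [], [], 6),
  (false, [12], [1, 5], 6),
  (false, [], [], 7),
  (false, [12], [0, 1, 2, 5], 7),
  (false, [], [], 8),
  (false, [12], [1, 2, 3, 6], 8),
  (false, [], [], 9),
  (false, [], [], 10),
  (false, [], [], 11),
  (false, [10, 13, 14], [1, 4], 11),
  (false, [], [], 12),
  (false, [12], [1, 2, 6], 12),
  (false, [], [], 13),
  (false, [12], [6], 13),
  (false, [], [], 14),
  (false, [10], [0, 4, 5], 14),
  (false, [], [], 15),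
  (false, [10], [0, 1, 3, 5], 15),
  (true, [2, 5], [], 7),
  (true, [1, 2, 4, 5], [], 7),
  (true, [0, 2, 3, 6], [], 7),
  (true, [0, 1, 3, 4, 6], [], 7),
  (false, [], [], 16),
  (false, [], [], 17),
  (false, [], [], 18),
  (false, [], [], 19)]

/-- Fates of the extensions. -/
noncomputable def node6 : List (Bool × List ℕ × List ℕ × ℕ) :=
  [(false, [], [], 0),
  (false, [], [], 1),
  (false, [], [], 2),
  (false, [14], [2, 3, 4], 2),
  (false, [], [], 3),
  (false, [12], [0, 5], 3),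
  (false, [], [], 4),
  (false, [12], [4, 5], 4),
  (false, [], [], 5),
  (false, [13], [1, 2, 4, 5], 5),
  (false, [], [], 6),
  (false, [13], [1, 2, 3, 4, 5], 6),
  (false, [], [], 7),
  (false, [], [], 8),
  (false, [], [], 9),
  (false, [13], [1, 2, 4], 9),
  (false, [], [], 10),
  (false, [13], [1, 2, 4], 10),
  (false, [], [], 11),
  (false, [9], [1, 2, 3, 5], 11),
  (false, [], [], 12),
  (false, [9], [0, 3, 5], 12),
  (true, [0, 3, 5], [], 6),
  (true, [0, 2, 3, 5], [], 6),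
  (false, [], [], 13),
  (false, [9], [0, 1, 2, 4, 5], 13),
  (true, [0, 1, 3], [], 6),
  (true, [0, 1, 3], [], 6),
  (false, [], [], 14),
  (false, [11], [0, 5], 14),
  (true, [2, 3, 4, 5], [], 6),
  (true, [0, 1, 4, 5], [], 6),
  (false, [], [], 15),
  (false, [], [], 16),
  (false, [], [], 17),
  (false, [], [], 18),
  (true, [0, 1], [], 6),
  (true, [1], [], 6),
  (false, [], [], 19),
  (false, [7], [1, 2, 3], 19)]

/-- Fates of the extensions. -/
noncomputable def node5 : List (Bool × List ℕ × List ℕ × ℕ) :=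
  [(false, [], [], 0),
  (false, [], [], 1),
  (false, [], [], 2),
  (false, [], [], 3),
  (false, [], [], 4),
  (false, [], [], 5),
  (false, [], [], 6),
  (false, [14], [1], 6),
  (false, [], [], 7),
  (false, [], [], 8),
  (false, [], [], 9),
  (false, [], [], 10),
  (false, [], [], 11),
  (false, [], [], 12),
  (false, [], [], 13),
  (false, [13], [3, 4], 13),
  (false, [], [], 14),
  (false, [13], [0], 14),
  (false, [], [], 15),
  (false, [], [], 16),
  (false, [], [], 17),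
  (false, [], [], 18),
  (false, [], [], 19),
  (false, [10], [0], 19),
  (false, [], [], 20),
  (false, [10], [2, 3, 4], 20),
  (true, [0, 1, 3, 4], [], 5),
  (true, [0, 1, 3, 4], [], 5),
  (false, [], [], 21),
  (false, [], [], 22),
  (false, [], [], 23),
  (false, [], [], 24),
  (false, [], [], 25),
  (false, [], [], 26),
  (false, [], [], 27),
  (false, [], [], 28),
  (false, [], [], 29),
  (false, [], [], 30),
  (false, [], [], 31),
  (false, [], [], 32)]

/-- Fates of the extensions. -/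
noncomputable def node4 : List (Bool × List ℕ × List ℕ × ℕ) :=
  [(false, [], [], 0),
  (false, [], [], 1),
  (false, [], [], 2),
  (false, [13], [1, 3], 2),
  (false, [], [], 3),
  (false, [13], [2, 3], 3),
  (false, [], [], 4),
  (false, [14], [0, 1], 4),
  (true, [2, 3], [], 4),
  (true, [2, 3], [], 4),
  (true, [1, 2, 3], [], 4),
  (true, [1, 2, 3], [], 4),
  (true, [0, 2, 3], [], 4),
  (true, [2, 3], [], 4),
  (false, [], [], 5),
  (false, [11], [1, 2], 5),
  (false, [], [], 6),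
  (false, [13], [], 6),
  (false, [], [], 7),
  (false, [10], [0, 2, 3], 7),
  (false, [], [], 8),
  (false, [10], [0, 2, 3], 8),
  (true, [1, 3], [], 4),
  (true, [0, 3], [], 4),
  (true, [1, 2, 3], [], 4),
  (true, [0, 2, 3], [], 4),
  (true, [0, 1, 3], [], 4),
  (true, [3], [], 4),
  (true, [0, 1, 2, 3], [], 4),
  (true, [2, 3], [], 4),
  (false, [], [], 9),
  (false, [9], [0, 2, 3], 9),
  (false, [], [], 10),
  (false, [9], [0, 1, 3], 10),
  (false, [], [], 11),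
  (false, [9], [0, 1, 2, 3], 11),
  (false, [], [], 12),
  (false, [9], [0, 3], 12),
  (false, [], [], 13),
  (false, [8], [0, 2, 3], 13),
  (true, [1, 2], [], 4),
  (true, [0, 1, 2], [], 4),
  (false, [], [], 14),
  (false, [7], [0, 1], 14),
  (false, [], [], 15),
  (false, [7], [], 15),
  (false, [], [], 16),
  (false, [5], [0, 1, 2, 3], 16),
  (true, [0, 3], [], 4),
  (true, [0, 2, 3], [], 4),
  (true, [0, 1, 2, 3], [], 4),
  (true, [0, 1, 3], [], 4),
  (false, [], [], 17),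
  (false, [5], [1, 2, 3], 17),
  (true, [1, 3], [], 4),
  (true, [1, 2, 3], [], 4),
  (false, [], [], 18),
  (false, [5], [2, 3], 18),
  (false, [], [], 19),
  (false, [5], [0, 2, 3], 19),
  (true, [0, 1, 2, 3], [], 4),
  (true, [0, 1, 3], [], 4),
  (true, [], [], 4),
  (true, [], [], 4),
  (false, [], [], 20),
  (false, [5], [], 20)]

/-- Fates of the extensions. -/
noncomputable def node3 : List (Bool × List ℕ × List ℕ × ℕ) :=
  [(false, [], [], 0),
  (false, [], [], 1),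
  (false, [], [], 2),
  (false, [], [], 3),
  (false, [], [], 4),
  (false, [12], [0, 2], 4),
  (false, [], [], 5),
  (false, [12], [2], 5),
  (false, [], [], 6),
  (false, [], [], 7),
  (false, [], [], 8),
  (false, [13], [0, 1, 2], 8),
  (false, [], [], 9),
  (false, [], [], 10),
  (false, [], [], 11),
  (false, [], [], 12),
  (false, [], [], 13),
  (false, [12], [], 13),
  (false, [], [], 14),
  (false, [], [], 15),
  (false, [], [], 16),
  (false, [2, 3, 4, 6, 8, 11, 12, 14], [], 16),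
  (false, [], [], 17),
  (false, [12, 14], [0], 17),
  (false, [], [], 18),
  (false, [], [], 19),
  (false, [], [], 20),
  (false, [7], [0, 1], 20),
  (true, [0, 1, 2], [], 3),
  (true, [2], [], 3),
  (false, [], [], 21),
  (false, [5], [1, 2], 21),
  (false, [], [], 22),
  (false, [], [], 23),
  (false, [], [], 24),
  (false, [], [], 25),
  (false, [], [], 26),
  (false, [], [], 27),
  (false, [], [], 28),
  (false, [], [], 29),
  (false, [], [], 30),
  (false, [], [], 31)]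

/-- Fates of the extensions. -/
noncomputable def node2 : List (Bool × List ℕ × List ℕ × ℕ) :=
  [(false, [], [], 0),
  (false, [], [], 1),
  (false, [], [], 2),
  (false, [13], [], 2),
  (false, [], [], 3),
  (false, [13], [0], 3),
  (false, [], [], 4),
  (false, [], [], 5),
  (false, [], [], 6),
  (false, [9], [1], 6),
  (false, [], [], 7),
  (false, [9], [0], 7),
  (false, [], [], 8),
  (false, [10], [], 8),
  (false, [], [], 9),
  (false, [10], [0, 1], 9),
  (true, [], [], 2),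
  (true, [], [], 2),
  (true, [1], [], 2),
  (true, [1], [], 2),
  (true, [0, 1], [], 2),
  (true, [0, 1], [], 2),
  (false, [], [], 10),
  (false, [5], [1], 10),
  (false, [], [], 11),
  (false, [5], [1], 11),
  (true, [], [], 2),
  (true, [], [], 2),
  (true, [1], [], 2),
  (true, [1], [], 2),
  (true, [1], [], 2),
  (true, [1], [], 2),
  (false, [], [], 12),
  (false, [5], [1], 12),
  (true, [0, 1], [], 2),
  (true, [0, 1], [], 2),
  (false, [], [], 13),
  (false, [5], [1], 13),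
  (false, [], [], 14),
  (false, [5], [1], 14),
  (false, [], [], 15),
  (false, [], [], 16),
  (false, [], [], 17),
  (false, [], [], 18),
  (true, [0, 1], [], 2),
  (true, [0, 1], [], 2),
  (false, [], [], 19),
  (false, [3], [], 19),
  (false, [], [], 20),
  (false, [3], [], 20),
  (true, [], [], 2),
  (true, [], [], 2),
  (true, [0, 1], [], 2),
  (true, [0, 1], [], 2),
  (false, [], [], 21),
  (false, [3], [], 21),
  (false, [], [], 22),
  (false, [3], [], 22),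
  (true, [0, 1], [], 2),
  (true, [0, 1], [], 2),
  (false, [], [], 23),
  (false, [1, 2, 3, 4, 9, 10], [1], 23),
  (false, [], [], 24),
  (false, [1, 2, 3, 4, 9, 10], [1], 24)]

/-- Fates of the extensions. -/
noncomputable def node1 : List (Bool × List ℕ × List ℕ × ℕ) :=
  [(false, [], [], 0),
  (false, [], [], 1),
  (false, [], [], 2),
  (false, [12], [0], 2),
  (false, [], [], 3),
  (false, [9], [0], 3),
  (false, [], [], 4),
  (false, [9], [0], 4),
  (false, [], [], 5),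
  (false, [12], [0], 5),
  (false, [], [], 6),
  (false, [], [], 7),
  (false, [], [], 8),
  (false, [7], [0], 8),
  (false, [], [], 9),
  (false, [], [], 10),
  (false, [], [], 11),
  (false, [9], [0], 11),
  (false, [], [], 12),
  (false, [12], [], 12),
  (true, [0], [], 1),
  (true, [0], [], 1),
  (false, [], [], 13),
  (false, [3], [0], 13),
  (false, [], [], 14),
  (false, [8, 10], [], 14),
  (false, [], [], 15),
  (false, [], [], 16),
  (false, [], [], 17),
  (false, [10], [0], 17),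
  (false, [], [], 18),
  (false, [10, 14], [0], 18),
  (false, [], [], 19),
  (false, [], [], 20),
  (false, [], [], 21),
  (false, [3], [0], 21),
  (true, [0], [], 1),
  (true, [0], [], 1),
  (true, [0], [], 1),
  (true, [0], [], 1),
  (false, [], [], 22),
  (false, [7], [0], 22),
  (true, [0], [], 1),
  (true, [0], [], 1),
  (true, [0], [], 1),
  (true, [0], [], 1),
  (false, [], [], 23),
  (false, [], [], 24),
  (false, [], [], 25),
  (false, [], [], 26)]

/-- Fates of the extensions. -/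
noncomputable def node0 : List (Bool × List ℕ × List ℕ × ℕ) :=
  [(false, [], [], 0),
  (false, [], [], 1),
  (false, [], [], 2),
  (false, [14], [], 2),
  (false, [], [], 3),
  (false, [13], [], 3),
  (false, [], [], 4),
  (false, [8], [], 4),
  (false, [], [], 5),
  (false, [11], [], 5),
  (false, [], [], 6),
  (false, [13], [], 6),
  (false, [], [], 7),
  (false, [14], [], 7),
  (false, [], [], 8),
  (false, [], [], 9),
  (true, [], [], 0),
  (true, [], [], 0),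
  (false, [], [], 10),
  (false, [5], [], 10),
  (false, [], [], 11),
  (false, [5], [], 11),
  (false, [], [], 12),
  (false, [5], [], 12),
  (false, [], [], 13),
  (false, [5], [], 13),
  (false, [], [], 14),
  (false, [], [], 15),
  (true, [], [], 0),
  (true, [], [], 0),
  (false, [], [], 16),
  (false, [3], [], 16),
  (false, [], [], 17),
  (false, [3], [], 17),
  (true, [], [], 0),
  (true, [], [], 0),
  (true, [], [], 0),
  (true, [], [], 0),
  (false, [], [], 18),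
  (false, [5], [], 18),
  (false, [], [], 19),
  (false, [5], [], 19),
  (false, [], [], 20),
  (false, [], [], 21),
  (false, [], [], 22),
  (false, [], [], 23),
  (true, [], [], 0),
  (true, [], [], 0),
  (false, [], [], 24),
  (false, [2], [], 24),
  (true, [], [], 0),
  (true, [], [], 0),
  (false, [], [], 25),
  (false, [2], [], 25)]

/-- All fates. -/
noncomputable def nodeTab : List (List (Bool × List ℕ × List ℕ × ℕ)) :=
  [node0, node1, node2, node3, node4, node5, node6, node7, node8, node9, node10, node11, node12, node13, node14]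

/-- Conjugating words of the last representatives. -/
noncomputable def lastW : List (ℕ × List ℕ) :=
  [(0, []),
  (2, []),
  (2, [4, 0, 5, 1, 0, 1, 3, 5, 5, 0, 5, 4, 4, 0, 2, 3, 1]),
  (3, [3, 5, 1, 3, 1, 3, 4, 0, 2, 3, 4, 4, 4, 4, 2, 2]),
  (2, [3, 2, 0, 5, 4, 3, 3, 1, 5, 0, 4, 5, 4, 5, 5, 1, 0]),
  (3, [0, 0, 5, 5, 3, 5, 4, 2, 4, 4, 4, 4, 3, 4, 3]),
  (2, [3, 1, 1, 5, 4, 0, 5, 1, 2, 0, 2, 0, 4, 3, 3, 2, 0]),
  (3, [3, 1, 2, 1, 1, 2, 2, 3, 3, 4, 3, 1, 3, 1, 2, 3, 4]),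
  (3, []),
  (1, []),
  (2, [4, 0, 4, 5, 0, 4, 5, 4, 5, 3, 3, 1, 1, 2, 4, 2]),
  (3, [5, 5, 3, 5, 4, 0, 5, 5, 1, 3, 5, 4, 3, 3, 1, 2]),
  (3, [3, 2, 4, 4, 3, 1, 1, 5, 0, 0, 5, 3, 5, 4, 2, 2, 0]),
  (2, [3, 4, 0, 5, 0, 5, 3, 2, 4, 2, 4, 0, 0, 1, 3]),
  (3, [3, 1, 2, 2, 2, 3, 5, 3, 5, 5, 3, 4, 2, 1, 5, 0, 0]),
  (2, [4, 2, 4, 2, 1, 3, 1, 2, 0, 2, 0, 4, 3, 3, 1, 0]),
  (3, [5, 3, 2, 3, 3, 5, 3, 3, 5, 1, 3, 1, 3, 5, 4, 2, 1]),
  (2, [3, 3, 5, 4, 3, 3, 2, 3, 2, 4, 3, 1, 2, 2, 1, 5, 3]),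
  (2, [0, 4, 4, 0, 0, 5, 4, 2, 2, 3, 5, 3, 4, 2, 3]),
  (3, [5, 0, 0, 5, 0, 5, 1, 5, 3, 4, 0, 5, 0, 4, 5, 0, 2]),
  (2, [2, 1, 1, 0, 2, 0, 1, 5, 1, 0, 1, 1, 5, 0, 1]),
  (3, [4, 4, 5, 0, 1, 5, 1, 0, 2, 1, 3, 1, 3, 4, 3]),
  (2, [1, 1, 3, 3, 4, 4, 5, 3, 4, 2, 2, 3, 3, 1, 0, 2]),
  (3, [0, 4, 0, 2, 3, 5, 0, 0, 1, 1, 1, 2, 4, 4, 4, 2, 1]),
  (3, [4, 4, 3, 5, 3, 5, 0, 5, 3, 1, 5, 0, 2, 3, 3]),
  (2, [3, 5, 3, 1, 3, 2, 4, 4, 2, 3, 1, 5, 0, 4, 5, 0, 0])]

/-- The central elements. -/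
noncomputable def tgtW : List (List ℕ) :=
  [[], [0, 1, 2, 3, 4], [0], [1, 2, 3, 4]]

/-- Iterated commutators squaring to central involutions. -/
noncomputable def witW : List (List (List ℕ)) :=
  [[[1, 2, 3, 4, 5, 6, 7, 11, 13], [0, 1, 6, 8, 10, 13], [2, 3, 4, 5, 6, 9, 13, 14]],
  [[0, 2, 3, 4, 8, 10, 11, 12, 14], [1, 3, 10, 12, 13, 14], [4, 5, 6, 8, 9, 10, 12, 13]]]

/-- Orbit transversals. -/
noncomputable def siftW : List (ℕ × List (List ℕ)) :=
  [(3569, [[], [3], [13], [6, 13], [10], [13, 14], [11, 14], [5, 11, 14], [14], [7, 12], [11], [12, 13], [12], [10, 13], [7], [8]]),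
  (7153, [[], [9], [9, 10, 13, 14], [10, 13, 14]]),
  (226, [[], [2], [5], [2, 5], [2, 5, 7, 8], [5, 7, 8], [2, 7, 8], [7, 8]]),
  (368, [[], [0], [0, 3, 7, 12, 14], [3, 7, 12, 14], [1, 2], [0, 1, 2], [1, 5, 6, 8, 9, 10, 11], [1, 2, 3, 7, 12, 14]]),
  (595, [[], [4]]),
  (8, [[], [6]]),
  (0, [[], [3, 4, 5, 6, 7, 8, 9, 10, 11, 12, 14]])]

end CfsgLib.RuAut.Invol
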