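import Cfsg.Agent.Lib.RuAut.Invol.Data
import Cfsg.Agent.Lib.RuAut.Mult.Cover
import Cfsg.Agent.Lib.RuAut.Out.Words

/-! Kernel predicates for the involutions of the double cover of the Rudvalis group. -/

set_option autoImplicit false
set_option maxRecDepth 100000

namespace CfsgLib.RuAut.Invol

open CfsgLib CfsgLib.RuAut CfsgLib.RuAut.Mult

/-- Bound for the letters of a commutator with a pc generator. -/
def lim (i : ℕ) : ℕ := bif Nat.ble 12 i then 12 else bif Nat.ble 9 i then 9 else i

/-- All letters are below a bound. -/
noncomputable def below (k : ℕ) (w : List ℕ) : Bool := w.all fun a => Nat.blt a k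

/-- Equality of the values of two words in the pc generators. -/
noncomputable def eqH (u w : List ℕ) : Bool := eqV (flat hW u) (flat hW w)

/-- A commutator relation. -/
noncomputable def comB (j i : ℕ) : Bool :=
  below (lim i) (comW.getD (j * (j - 1) / 2 + i) []) &&
    eqH [j, i] (comW.getD (j * (j - 1) / 2 + i) [] ++ [i, j])

/-- A power relation and the commutator relations below it. -/
noncomputable def relB (j : ℕ) : Bool :=
  below j (sqW.getD j []) && eqH [j, j] (sqW.getD j []) && (List.range j).all fun i => comB j i

/-- The fate of one extension of a representative. -/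
noncomputable def fateB (i : ℕ) (v : List ℕ) (next : List (List ℕ)) : Bool × List ℕ × List ℕ × ℕ → Bool
  | (true, t, _, j) => Nat.ble i j && Nat.blt j 15 && below j t && eqH (v ++ v) (t ++ [j])
  | (false, c, n, q) =>
    below 15 c && below i n && Nat.blt q next.length && eqH (v ++ c) (c ++ next.getD q [] ++ n)

/-- One level of the search. -/
noncomputable def levelB (i : ℕ) : Bool :=
  (repsTab.getD i []).all (below 15) && (List.range (repsTab.getD (i + 1) []).length).all fun k =>
    Nat.blt (2 * k + 1) (nodeTab.getD i []).length &&
      fateB i ((repsTab.getD (i + 1) []).getD k []) (repsTab.getD i [])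
        ((nodeTab.getD i []).getD (2 * k) (false, [], [], 0)) &&
      fateB i ((repsTab.getD (i + 1) []).getD k [] ++ [i]) (repsTab.getD i [])
        ((nodeTab.getD i []).getD (2 * k + 1) (false, [], [], 0))

/-- The last representatives are conjugate to central elements. -/
noncomputable def finalB (k : ℕ) : Bool :=
  Nat.blt (lastW.getD k (0, [])).1 4 && wordB (lastW.getD k (0, [])).2 &&
    eqV (flat hW ((repsTab.getD 0 []).getD k []) ++ (lastW.getD k (0, [])).2)
      ((lastW.getD k (0, [])).2 ++ flat hW (tgtW.getD (lastW.getD k (0, [])).1 []))

/-- Inverse of a word in the standard letters. -/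
noncomputable def invW (w : List ℕ) : List ℕ := (w.map Outer.invL).reverse

/-- Commutator of two words in the standard letters. -/
noncomputable def commW (a b : List ℕ) : List ℕ := a ++ b ++ invW a ++ invW b

/-- Iterated commutator of three words in the pc generators. -/
noncomputable def tripleW (k : ℕ) : List ℕ :=
  commW (commW (flat hW ((witW.getD k []).getD 0 [])) (flat hW ((witW.getD k []).getD 1 [])))
    (flat hW ((witW.getD k []).getD 2 []))

/-- Normal words in the first pc generators. -/
noncomputable def subs (k : ℕ) : List (List ℕ) :=
  Nat.rec (motive := fun _ => List (List ℕ)) [[]] (fun m ih => ih ++ ih.map fun w => w ++ [m]) k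

/-- The square of a normal word differs from minus the identity. -/
noncomputable def sqNeB (w : List ℕ) : Bool :=
  wordB (flat hW w) && baseV.any fun b => Nat.blt b 16240 && !Nat.beq (scanV (flat hW (w ++ w)) b) (scanV negW b)

end CfsgLib.RuAut.Invol
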