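import Cfsg.Agent.Lib.RuAut.Invol.Checks

/-! Involutions of the double cover of the Rudvalis group and square roots in the third central term. -/

set_option autoImplicit false
set_option maxRecDepth 100000

namespace CfsgLib.RuAut.Invol

open Cfsg Cfsg.Spor CfsgLib CfsgLib.CosetEnum CfsgLib.RuAut CfsgLib.RuAut.Mult
open scoped commutatorElement

attribute [local irreducible] Tr.get

/-- The pc generators. -/
noncomputable def hgen (j : ℕ) : coverGrp := evK (hW.getD j [])

/-- Value of a word in the pc generators. -/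
noncomputable def hv (w : List ℕ) : coverGrp := evK (flat hW w)

theorem hv_eq (w : List ℕ) : hv w = SchurPath.wv hgen w := evK_flat hW w

theorem hv_nil : hv [] = 1 := by simp [hv_eq, SchurPath.wv]

theorem hv_append (u w : List ℕ) : hv (u ++ w) = hv u * hv w := by
  rw [hv_eq, hv_eq, hv_eq, SchurPath.wv_append]

theorem hv_one (j : ℕ) : hv [j] = hgen j := by simp [hv_eq, SchurPath.wv]

/-- The subgroups of the central series. -/
noncomputable def Ser (k : ℕ) : Subgroup coverGrp := Subgroup.closure {x | ∃ a < k, hgen a = x}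

theorem hgen_mem {k a : ℕ} (h : a < k) : hgen a ∈ Ser k := Subgroup.subset_closure ⟨a, h, rfl⟩

theorem ser_mono {a b : ℕ} (h : a ≤ b) : Ser a ≤ Ser b :=
  Subgroup.closure_mono fun _ ⟨x, hx, e⟩ => ⟨x, lt_of_lt_of_le hx h, e⟩

theorem hv_mem {k : ℕ} {w : List ℕ} (h : below k w = true) : hv w ∈ Ser k := by
  rw [hv_eq]
  refine list_prod_mem fun x hx => ?_
  obtain ⟨a, ha, rfl⟩ := List.mem_map.1 hx
  have := List.all_eq_true.1 h a ha
  rw [Nat.blt_eq] at this
  exact hgen_mem this

theorem eqH_spec {u w : List ℕ} (h : eqH u w = true) : hv u = hv w := eqV_spec h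

theorem sq_mem {j : ℕ} (hj : j < 15) : hgen j * hgen j ∈ Ser j := by
  have h := List.all_eq_true.1 rel_checks j (List.mem_range.2 hj)
  simp only [relB, Bool.and_eq_true] at h
  have e := eqH_spec h.1.2
  rw [show [j, j] = [j] ++ [j] from rfl, hv_append, hv_one] at e
  rw [e]
  exact hv_mem h.1.1

theorem comm_mem {i j : ℕ} (hij : i < j) (hj : j < 15) : ⁅hgen j, hgen i⁆ ∈ Ser (lim i) := by
  have h := List.all_eq_true.1 rel_checks j (List.mem_range.2 hj)
  simp only [relB, Bool.and_eq_true] at h
  have h' := List.all_eq_true.1 h.2 i (List.mem_range.2 hij)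
  simp only [comB, Bool.and_eq_true] at h'
  have e := eqH_spec h'.2
  rw [show [j, i] = [j] ++ [i] from rfl, show [i, j] = [i] ++ [j] from rfl, hv_append, hv_append, hv_append,
    hv_one, hv_one] at e
  rw [commutatorElement_def, e]
  have := hv_mem h'.1
  convert this using 1
  group

theorem lim_le (i : ℕ) : lim i ≤ i := by
  unfold lim
  rcases h1 : Nat.ble 12 i with _ | _
  · rcases h2 : Nat.ble 9 i with _ | _
    · exact le_rfl
    · simp only [Nat.ble_eq] at h2; exact h2
  · simp only [Nat.ble_eq] at h1; exact h1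

theorem ser_normal {k : ℕ} (hk : k ≤ 15) {g x : coverGrp} (hg : g ∈ Ser 15) (hx : x ∈ Ser k) :
    g * x * g⁻¹ ∈ Ser k := by
  have hgen : ∀ j < 15, ∀ y ∈ Ser k, hgen j * y * (hgen j)⁻¹ ∈ Ser k := by
    intro j hj y hy
    induction hy using Subgroup.closure_induction with
    | mem y hy =>
      obtain ⟨i, hi, rfl⟩ := hy
      rcases lt_trichotomy i j with h | rfl | h
      · have hc := ser_mono ((lim_le i).trans hi.le) (comm_mem h hj)
        rw [commutatorElement_def] at hc
        have := mul_mem hc (hgen_mem hi)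
        rwa [inv_mul_cancel_right] at this
      · rw [mul_inv_cancel_right]; exact hgen_mem hi
      · exact mul_mem (mul_mem (hgen_mem (h.trans hi)) (hgen_mem hi)) (inv_mem (hgen_mem (h.trans hi)))
    | one => rw [mul_one, mul_inv_cancel]; exact one_mem _
    | mul a b _ _ ha hb =>
      have := mul_mem ha hb
      convert this using 1
      group
    | inv a _ ha =>
      have := inv_mem ha
      convert this using 1
      group
  have hle : Ser 15 ≤ Subgroup.normalizer (Ser k : Set coverGrp) := by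
    rw [Ser, Subgroup.closure_le]
    rintro _ ⟨j, hj, rfl⟩
    exact Subgroup.mem_normalizer_fintype fun y hy => hgen j hj y hy
  exact (Subgroup.mem_normalizer_iff.1 (hle hg) x).1 hx

theorem ser_step {i : ℕ} (hi : i < 15) {x : coverGrp} (hx : x ∈ Ser (i + 1)) :
    x ∈ Ser i ∨ (hgen i)⁻¹ * x ∈ Ser i := by
  let H : Subgroup coverGrp :=
    { carrier := {y | y ∈ Ser i ∨ (hgen i)⁻¹ * y ∈ Ser i}
      one_mem' := Or.inl (one_mem _)
      mul_mem' := fun {a b} ha hb => by
        have hh := hgen_mem (show i < 15 from hi)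
        rcases ha with ha | ha <;> rcases hb with hb | hb
        · exact Or.inl (mul_mem ha hb)
        · refine Or.inr ?_
          have := mul_mem (ser_normal hi.le (inv_mem hh) ha) hb
          convert this using 1
          group
        · refine Or.inr ?_
          have := mul_mem ha hb
          convert this using 1
          group
        · refine Or.inl ?_
          have := mul_mem (mul_mem (ser_normal hi.le hh ha) (sq_mem hi)) hb
          convert this using 1
          group
      inv_mem' := fun {a} ha => by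
        have hh := hgen_mem (show i < 15 from hi)
        rcases ha with ha | ha
        · exact Or.inl (inv_mem ha)
        · refine Or.inr ?_
          have := mul_mem (inv_mem (sq_mem hi)) (ser_normal hi.le hh (inv_mem ha))
          convert this using 1
          group }
  have hle : Ser (i + 1) ≤ H := by
    rw [Ser, Subgroup.closure_le]
    rintro _ ⟨a, ha, rfl⟩
    rcases Nat.lt_succ_iff_lt_or_eq.1 ha with h | rfl
    · exact Or.inl (hgen_mem h)
    · exact Or.inr (by rw [inv_mul_cancel]; exact one_mem _)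
  exact hle hx

theorem card_step {i : ℕ} (hi : i < 15) : Nat.card (Ser (i + 1)) ≤ 2 * Nat.card (Ser i) := by
  classical
  let f : Bool × Ser i → coverGrp := fun p => bif p.1 then hgen i * p.2 else p.2
  have hs : (Ser (i + 1) : Set coverGrp) ⊆ Set.range f := fun x hx => by
    rcases ser_step hi hx with h | h
    · exact ⟨(false, ⟨x, h⟩), rfl⟩
    · exact ⟨(true, ⟨_, h⟩), mul_inv_cancel_left _ _⟩
  calc Nat.card (Ser (i + 1)) ≤ Nat.card (Set.range f) := Nat.card_mono (Set.toFinite _) hs
    _ ≤ Nat.card (Bool × Ser i) := Finite.card_range_le f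
    _ = 2 * Nat.card (Ser i) := by rw [Nat.card_prod]; simp

theorem card_ser_le : ∀ k ≤ 15, Nat.card (Ser k) ≤ 2 ^ k
  | 0, _ => by
    have : Ser 0 = ⊥ := (Subgroup.closure_eq_bot_iff).2 fun x ⟨a, ha, _⟩ => absurd ha (Nat.not_lt_zero a)
    rw [this, Subgroup.card_bot, pow_zero]
  | k + 1, hk => by
    refine (card_step hk).trans ?_
    rw [pow_succ']
    exact Nat.mul_le_mul_left 2 (card_ser_le k (by omega))

theorem below_of_sift (L : List (List ℕ)) (m : ℕ) : ∀ lv : List (ℕ × List (List ℕ)), siftB L m lv = true →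
    ∀ w ∈ lv.flatMap Prod.snd, below m w = true
  | [], _, _, hw => by simp at hw
  | (n, ws) :: rest, hs, w, hw => by
    simp only [siftB, Bool.and_eq_true, List.all_eq_true] at hs
    simp only [List.flatMap_cons, List.mem_append] at hw
    rcases hw with hw | hw
    · exact List.all_eq_true.2 fun a ha => (hs.1.1.1.2 w hw).1 a ha
    · exact below_of_sift L m rest hs.2 w hw

theorem le_card_ser : 32768 ≤ Nat.card (Ser 15) := by
  have h := sift_check
  rw [Bool.and_eq_true, Nat.beq_eq] at h
  rw [← h.2]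
  exact sift_le_card hW siftW (Ser 15) h.1 fun w hw => hv_mem (below_of_sift hW 15 siftW h.1 w hw)

theorem hgen_not_mem {j : ℕ} (hj : j < 15) : hgen j ∉ Ser j := by
  intro hmem
  have hd : ∀ d, j + 1 + d ≤ 15 → Nat.card (Ser (j + 1 + d)) ≤ 2 ^ (j + d) := by
    intro d
    induction d with
    | zero =>
      intro _
      have hle : Ser (j + 1) ≤ Ser j := by
        rw [Ser, Subgroup.closure_le]
        rintro _ ⟨a, ha, rfl⟩
        rcases Nat.lt_succ_iff_lt_or_eq.1 ha with h | rfl
        · exact hgen_mem h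
        · exact hmem
      exact (Subgroup.card_le_of_le hle).trans (card_ser_le j hj.le)
    | succ d ih =>
      intro hk
      rw [show j + (d + 1) = j + d + 1 from rfl, pow_succ']
      exact (card_step (i := j + 1 + d) (by omega)).trans (Nat.mul_le_mul_left 2 (ih (by omega)))
  have h := hd (14 - j) (by omega)
  rw [show j + 1 + (14 - j) = 15 by omega, show j + (14 - j) = 14 by omega] at h
  have := le_card_ser
  omega

theorem card_ser : Nat.card (Ser 15) = 32768 :=
  le_antisymm ((card_ser_le 15 le_rfl).trans (by norm_num)) le_card_ser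

theorem rep_mem {i : ℕ} (hi : i ≤ 15) {r : List ℕ} (hr : r ∈ repsTab.getD i []) : hv r ∈ Ser 15 := by
  rcases eq_or_lt_of_le hi with rfl | hi
  · rw [top_check, List.mem_singleton] at hr
    subst hr
    rw [hv_nil]; exact one_mem _
  · have h := List.all_eq_true.1 level_checks i (List.mem_range.2 hi)
    simp only [levelB, Bool.and_eq_true] at h
    exact hv_mem (List.all_eq_true.1 h.1 r hr)

/-- Every element of square one is conjugate into a class of a representative. -/
theorem descend : ∀ (d : ℕ) {i : ℕ}, i + d = 15 → ∀ {x : coverGrp}, x ∈ Ser 15 → x * x = 1 →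
    ∃ c ∈ Ser 15, ∃ r ∈ repsTab.getD i [], (hv r)⁻¹ * (c⁻¹ * x * c) ∈ Ser i
  | 0, i, hi, x, hx, _ => by
    obtain rfl : i = 15 := by omega
    exact ⟨1, one_mem _, [], by rw [top_check]; simp, by rw [hv_nil]; simpa using hx⟩
  | d + 1, i, hi, x, hx, hx2 => by
    obtain ⟨c, hc, r, hr, hm⟩ := descend d (i := i + 1) (by omega) hx hx2
    obtain ⟨k, hk, rfl⟩ := List.mem_iff_getElem.1 hr
    have hi15 : i < 15 := by omega
    have h := List.all_eq_true.1 level_checks i (List.mem_range.2 hi15)
    simp only [levelB, Bool.and_eq_true] at h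
    have h2 := List.all_eq_true.1 h.2 k (List.mem_range.2 hk)
    simp only [Bool.and_eq_true] at h2
    rw [List.getD_eq_getElem _ _ hk] at h2
    set r := (repsTab.getD (i + 1) [])[k] with hrdef
    set y := c⁻¹ * x * c with hy
    have hy2 : y * y = 1 := by
      rw [hy, show c⁻¹ * x * c * (c⁻¹ * x * c) = c⁻¹ * (x * x) * c by group, hx2, mul_one, inv_mul_cancel]
    have hrm : hv r ∈ Ser 15 := rep_mem (by omega) (List.getElem_mem hk)
    obtain ⟨v, f, hf, hv15, hvy⟩ : ∃ (v : List ℕ) (f : Bool × List ℕ × List ℕ × ℕ),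
        fateB i v (repsTab.getD i []) f = true ∧ hv v ∈ Ser 15 ∧ (hv v)⁻¹ * y ∈ Ser i := by
      rcases ser_step hi15 hm with h' | h'
      · exact ⟨r, _, h2.1.2, hrm, h'⟩
      · refine ⟨r ++ [i], _, h2.2, ?_, ?_⟩
        · rw [hv_append, hv_one]; exact mul_mem hrm (hgen_mem hi15)
        · rw [hv_append, hv_one, mul_inv_rev, mul_assoc]; exact h'
    set n := (hv v)⁻¹ * y with hn
    rcases f with ⟨_ | _, a, b, q⟩
    · simp only [fateB, Bool.and_eq_true, Nat.blt_eq] at hf
      obtain ⟨⟨⟨ha, hb⟩, hq⟩, he⟩ := hf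
      have e := eqH_spec he
      rw [hv_append, hv_append, hv_append, List.getD_eq_getElem _ _ hq] at e
      refine ⟨c * hv a, mul_mem hc (hv_mem ha), _, List.getElem_mem hq, ?_⟩
      have hcn : (hv a)⁻¹ * n * hv a ∈ Ser i := by
        have := ser_normal hi15.le (inv_mem (hv_mem ha)) hvy
        rwa [inv_inv] at this
      have := mul_mem (hv_mem hb) hcn
      convert this using 1
      rw [hn, show (c * hv a)⁻¹ * x * (c * hv a) = (hv a)⁻¹ * y * hv a by rw [hy]; group]
      calc (hv ((repsTab.getD i [])[q]))⁻¹ * ((hv a)⁻¹ * y * hv a)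
          = (hv ((repsTab.getD i [])[q]))⁻¹ * (hv a)⁻¹ * (hv v * hv a) * ((hv a)⁻¹ * ((hv v)⁻¹ * y) * hv a) := by
            group
        _ = hv b * ((hv a)⁻¹ * ((hv v)⁻¹ * y) * hv a) := by rw [e]; group
    · exfalso
      simp only [fateB, Bool.and_eq_true, Nat.blt_eq, Nat.ble_eq] at hf
      obtain ⟨⟨⟨hij, hq⟩, ha⟩, he⟩ := hf
      have e := eqH_spec he
      rw [hv_append, hv_append, hv_one] at e
      have hmem : hv v * hv v ∈ Ser i := by
        have h1 := mul_mem (ser_normal hi15.le hv15 hvy) (ser_normal hi15.le (mul_mem hv15 hv15) hvy)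
        have h2 : hv v * n * (hv v)⁻¹ * (hv v * hv v * n * (hv v * hv v)⁻¹) = (hv v * hv v)⁻¹ := by
          have : hv v * n * (hv v * n) = 1 := by rw [hn, mul_inv_cancel_left, hy2]
          calc hv v * n * (hv v)⁻¹ * (hv v * hv v * n * (hv v * hv v)⁻¹)
              = (hv v * n * (hv v * n)) * (hv v * hv v)⁻¹ := by group
            _ = (hv v * hv v)⁻¹ := by rw [this, one_mul]
        rw [h2] at h1
        exact inv_mem_iff.1 h1
      rw [e] at hmem
      refine hgen_not_mem hq ?_
      have := mul_mem (inv_mem (hv_mem ha)) (ser_mono hij hmem)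
      rwa [inv_mul_cancel_left] at this

/-- Minus the identity. -/
noncomputable def cz : coverGrp := evK negW

/-- A central involution. -/
noncomputable def cu : coverGrp := hv (tgtW.getD 2 [])

/-- The other central involution. -/
noncomputable def cv : coverGrp := hv (tgtW.getD 3 [])

theorem tgt_mem (k : ℕ) : hv (tgtW.getD k []) ∈ Ser 15 := by
  rcases Nat.lt_or_ge k tgtW.length with h | h
  · rw [List.getD_eq_getElem _ _ h]
    exact hv_mem (List.all_eq_true.1 tgt_below _ (List.getElem_mem h))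
  · rw [List.getD_eq_default _ _ h, hv_nil]; exact one_mem _

theorem hv_minus : hv (tgtW.getD 1 []) = cz := eqV_spec minus_check

theorem cz_sq : cz * cz = 1 := by
  have hk : cz ∈ sigma.ker := by
    rw [MonoidHom.mem_ker, cz, sigma_evK, Outer.eqW_spec neg_line, Outer.ev_nil]
  have := pow_card_eq_one' (G := sigma.ker) (x := ⟨cz, hk⟩)
  rw [card_ker, pow_two] at this
  exact congrArg Subtype.val this

theorem cz_central (g : coverGrp) : g * cz = cz * g :=
  Subgroup.mem_center_iff.1 (ker_le_center (by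
    rw [MonoidHom.mem_ker, cz, sigma_evK, Outer.eqW_spec neg_line, Outer.ev_nil])) g

theorem commutes_cu {a : coverGrp} (ha : a ∈ Ser 15) : a * cu = cu * a ∧ a * cv = cv * a := by
  induction ha using Subgroup.closure_induction with
  | mem g hg =>
    obtain ⟨j, hj, rfl⟩ := hg
    have h := List.all_eq_true.1 central_checks j (List.mem_range.2 hj)
    simp only [Bool.and_eq_true] at h
    have e1 := eqH_spec h.1.1
    have e2 := eqH_spec h.1.2
    rw [hv_append, hv_append, hv_one] at e1 e2
    exact ⟨e1, e2⟩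
  | one => simp
  | mul a b _ _ ha hb =>
    exact ⟨(show Commute a cu from ha.1).mul_left hb.1, (show Commute a cv from ha.2).mul_left hb.2⟩
  | inv a _ ha => exact ⟨(show Commute a cu from ha.1).inv_left, (show Commute a cv from ha.2).inv_left⟩

theorem exists_conj_of_sq {x : coverGrp} (hx : x ∈ Ser 15) (h2 : x * x = 1) :
    x = 1 ∨ x = cz ∨ IsConj cu x ∨ IsConj cv x := by
  obtain ⟨c, -, r, hr, hm⟩ := descend 15 (i := 0) rfl hx h2
  have h0 : Ser 0 = ⊥ := (Subgroup.closure_eq_bot_iff).2 fun x ⟨a, ha, _⟩ => absurd ha (Nat.not_lt_zero a)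
  rw [h0, Subgroup.mem_bot, inv_mul_eq_one] at hm
  obtain ⟨k, hk, rfl⟩ := List.mem_iff_getElem.1 hr
  have h := List.all_eq_true.1 final_checks k (List.mem_range.2 hk)
  simp only [finalB, Bool.and_eq_true, Nat.blt_eq] at h
  obtain ⟨⟨hlt, -⟩, he⟩ := h
  rw [List.getD_eq_getElem _ _ hk] at he
  have e := eqV_spec he
  rw [evK_append, evK_append] at e
  change hv _ * _ = _ * hv _ at e
  have hc : IsConj (hv (tgtW.getD (lastW.getD k (0, [])).1 [])) x := by
    refine isConj_iff.2 ⟨c * evK (lastW.getD k (0, [])).2, ?_⟩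
    rw [show c * evK (lastW.getD k (0, [])).2 * hv (tgtW.getD (lastW.getD k (0, [])).1 []) *
        (c * evK (lastW.getD k (0, [])).2)⁻¹ = c * ((evK (lastW.getD k (0, [])).2 *
        hv (tgtW.getD (lastW.getD k (0, [])).1 [])) * (evK (lastW.getD k (0, [])).2)⁻¹) * c⁻¹ by group,
      ← e, mul_inv_cancel_right, hm]
    group
  generalize (lastW.getD k (0, [])).1 = t at hlt hc
  interval_cases t
  · rw [show tgtW.getD 0 [] = [] from rfl, hv_nil, isConj_one_right] at hc
    exact Or.inl hc
  · rw [hv_minus, isConj_iff] at hc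
    obtain ⟨g, hg⟩ := hc
    rw [cz_central, mul_inv_cancel_right] at hg
    exact Or.inr (Or.inl hg.symm)
  · exact Or.inr (Or.inr (Or.inl hc))
  · exact Or.inr (Or.inr (Or.inr hc))

theorem isPGroup_ser : IsPGroup 2 (Ser 15) := IsPGroup.of_card (n := 15) (by rw [card_ser]; norm_num)

/-- The Sylow 2-subgroup. -/
noncomputable def sylow : Sylow 2 coverGrp :=
  isPGroup_ser.toSylow (by
    intro hd
    have h := Subgroup.card_mul_index (Ser 15)
    rw [card_ser, card_coverGrp] at h
    obtain ⟨q, hq⟩ := hd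
    rw [hq] at h
    omega)

theorem involution_cases {x : coverGrp} (h2 : x * x = 1) :
    x = 1 ∨ x = cz ∨ IsConj cu x ∨ IsConj cv x := by
  haveI : Fact (Nat.Prime 2) := ⟨Nat.prime_two⟩
  have hp : IsPGroup 2 (Subgroup.zpowers x) := by
    intro y
    obtain ⟨i, hi⟩ := Subgroup.mem_zpowers_iff.1 y.2
    refine ⟨1, Subtype.ext ?_⟩
    rw [SubmonoidClass.coe_pow, ← hi, pow_one, ← zpow_natCast, ← zpow_mul, mul_comm, zpow_mul]
    simp [pow_two, h2]
  obtain ⟨Q, hQ⟩ := hp.exists_le_sylow
  obtain ⟨g, hg⟩ := MulAction.exists_smul_eq coverGrp Q sylow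
  have hmem : g * x * g⁻¹ ∈ Ser 15 := by
    have h1 : g * x * g⁻¹ ∈ ((g • Q : Sylow 2 coverGrp) : Subgroup coverGrp) :=
      ⟨x, hQ (Subgroup.mem_zpowers x), rfl⟩
    rwa [hg] at h1
  have hsq : g * x * g⁻¹ * (g * x * g⁻¹) = 1 := by
    rw [show g * x * g⁻¹ * (g * x * g⁻¹) = g * (x * x) * g⁻¹ by group, h2, mul_one, mul_inv_cancel]
  rcases exists_conj_of_sq hmem hsq with h | h | h | h
  · exact Or.inl (conj_eq_one_iff.1 h)
  · refine Or.inr (Or.inl ?_)
    rw [mul_inv_eq_iff_eq_mul, ← cz_central, mul_right_inj] at h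
    exact h
  · exact Or.inr (Or.inr (Or.inl (h.trans (isConj_iff.2 ⟨g⁻¹, by group⟩))))
  · exact Or.inr (Or.inr (Or.inr (h.trans (isConj_iff.2 ⟨g⁻¹, by group⟩))))

/-- Commutators of closures from commutators of generators. -/
theorem commutator_closure_le {G : Type*} [Group G] (X Y : Set G) (N : Subgroup G)
    (hn : ∀ g ∈ Subgroup.closure (X ∪ Y), ∀ a ∈ N, g * a * g⁻¹ ∈ N) (h : ∀ x ∈ X, ∀ y ∈ Y, ⁅x, y⁆ ∈ N) :
    ⁅Subgroup.closure X, Subgroup.closure Y⁆ ≤ N := by
  have key : ∀ (A : Set G) (b : G), b ∈ Subgroup.closure (X ∪ Y) → A ⊆ X ∪ Y → (∀ a ∈ A, ⁅a, b⁆ ∈ N) →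
      ∀ a ∈ Subgroup.closure A, ⁅a, b⁆ ∈ N := by
    intro A b _ hA hb a ha
    induction ha using Subgroup.closure_induction with
    | mem a ha => exact hb a ha
    | one => rw [commutatorElement_one_left]; exact one_mem _
    | mul p q hp _ ihp ihq =>
      have := mul_mem (hn p (Subgroup.closure_mono hA hp) _ ihq) ihp
      convert this using 1
      simp only [commutatorElement_def]
      group
    | inv p hp ihp =>
      have := hn p⁻¹ (inv_mem (Subgroup.closure_mono hA hp)) _ (inv_mem ihp)
      convert this using 1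
      simp only [commutatorElement_def]
      group
  rw [Subgroup.commutator_le]
  intro a ha b hb
  refine key X b (Subgroup.closure_mono Set.subset_union_right hb) Set.subset_union_left (fun x hx => ?_) a ha
  rw [← inv_mem_iff, commutatorElement_inv]
  refine key Y x (Subgroup.subset_closure (Or.inl hx)) Set.subset_union_right (fun y hy => ?_) b hb
  rw [← inv_mem_iff, commutatorElement_inv]
  exact h x hx y hy

theorem lim_twelve {i : ℕ} (hi : i < 15) : lim i ≤ 12 := by interval_cases i <;> decide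

theorem lim_nine {i : ℕ} (hi : i < 12) : lim i ≤ 9 := by interval_cases i <;> decide

theorem lower_two : ⁅Ser 15, Ser 15⁆ ≤ Ser 12 := by
  refine commutator_closure_le _ _ _ (fun g hg a ha => ser_normal (by norm_num) (by rwa [Set.union_self] at hg) ha) ?_
  rintro _ ⟨i, hi, rfl⟩ _ ⟨j, hj, rfl⟩
  rcases lt_trichotomy i j with h | rfl | h
  · rw [← inv_mem_iff, commutatorElement_inv]; exact ser_mono (lim_twelve hi) (comm_mem h hj)
  · rw [commutatorElement_self]; exact one_mem _
  · exact ser_mono (lim_twelve hj) (comm_mem h hi)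

theorem lower_three : ⁅⁅Ser 15, Ser 15⁆, Ser 15⁆ ≤ Ser 9 := by
  refine le_trans (Subgroup.commutator_mono lower_two le_rfl) ?_
  refine commutator_closure_le _ _ _ (fun g hg a ha => ser_normal (by norm_num) ?_ ha) ?_
  · refine Subgroup.closure_mono ?_ hg
    rintro x (⟨a, ha, rfl⟩ | hx)
    · exact ⟨a, by omega, rfl⟩
    · exact hx
  rintro _ ⟨i, hi, rfl⟩ _ ⟨j, hj, rfl⟩
  rcases lt_trichotomy i j with h | rfl | h
  · rw [← inv_mem_iff, commutatorElement_inv]; exact ser_mono (lim_nine hi) (comm_mem h hj)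
  · rw [commutatorElement_self]; exact one_mem _
  · exact ser_mono (lim_nine (h.trans hi)) (comm_mem h (by omega))

theorem exists_subs : ∀ k ≤ 15, ∀ x ∈ Ser k, ∃ w ∈ subs k, x = hv w
  | 0, _, x, hx => by
    have h0 : Ser 0 = ⊥ := (Subgroup.closure_eq_bot_iff).2 fun x ⟨a, ha, _⟩ => absurd ha (Nat.not_lt_zero a)
    rw [h0, Subgroup.mem_bot] at hx
    exact ⟨[], by simp [subs], by rw [hv_nil, hx]⟩
  | k + 1, hk, x, hx => by
    rcases ser_step hk hx with h | h
    · obtain ⟨w, hw, rfl⟩ := exists_subs k (by omega) x h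
      exact ⟨w, List.mem_append_left _ hw, rfl⟩
    · have h' := ser_normal (by omega) (hgen_mem (show k < 15 by omega)) h
      obtain ⟨w, hw, e⟩ := exists_subs k (by omega) _ h'
      refine ⟨w ++ [k], List.mem_append_right _ (List.mem_map.2 ⟨w, hw, rfl⟩), ?_⟩
      rw [hv_append, ← e, hv_one]
      group

theorem no_sq_cz {a : coverGrp} (ha : a ∈ Ser 9) : a * a ≠ cz := by
  obtain ⟨w, hw, rfl⟩ := exists_subs 9 (by norm_num) a ha
  have h := List.all_eq_true.1 no_root w hw
  simp only [sqNeB, Bool.and_eq_true, List.any_eq_true, Nat.blt_eq, Bool.not_eq_true'] at h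
  obtain ⟨hw6, b, -, hb, hne⟩ := h
  intro e
  rw [← hv_append] at e
  have hw2 : ∀ x ∈ flat hW (w ++ w), x < 6 := by
    intro x hx
    rw [show flat hW (w ++ w) = flat hW w ++ flat hW w by simp [flat], List.mem_append] at hx
    exact wordB_spec hw6 x (by tauto)
  have hn := neg_move
  rw [Bool.and_eq_true] at hn
  have h1 := evK_apply _ hw2 ⟨b, hb⟩
  rw [show evK (flat hW (w ++ w)) = evK negW from e, evK_apply _ (wordB_spec hn.1) ⟨b, hb⟩] at h1
  simp [h1] at hne

theorem evK_invW : ∀ {w : List ℕ}, (∀ x ∈ w, x < 6) → evK (invW w) = (evK w)⁻¹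
  | [], _ => by simp [invW, evK]
  | x :: w, h => by
    have hg : genK (Outer.invL x) = (genK x)⁻¹ := by
      have hx := h x (by simp)
      interval_cases x
      all_goals exact Subtype.ext rfl
    rw [evK_cons, mul_inv_rev, ← evK_invW (w := w) (fun y hy => h y (by simp [hy])), ← hg]
    simp [invW, evK]

theorem evK_commW {a b : List ℕ} (ha : ∀ x ∈ a, x < 6) (hb : ∀ x ∈ b, x < 6) :
    evK (commW a b) = ⁅evK a, evK b⁆ := by
  rw [commW, evK_append, evK_append, evK_append, evK_invW ha, evK_invW hb, commutatorElement_def]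

theorem flat_lt {w : List ℕ} (h : below 15 w = true) : ∀ x ∈ flat hW w, x < 6 := by
  intro x hx
  simp only [flat, List.mem_flatten, List.mem_map] at hx
  obtain ⟨l, ⟨a, ha, rfl⟩, hx⟩ := hx
  have hw := h_words
  rw [Bool.and_eq_true, Nat.beq_eq] at hw
  have ha' := List.all_eq_true.1 h a ha
  rw [Nat.blt_eq] at ha'
  have hl : a < hW.length := by omega
  rw [List.getD_eq_getElem _ _ hl] at hx
  exact wordB_spec (List.all_eq_true.1 hw.1 _ (List.getElem_mem hl)) x hx

theorem roots_exist : ∀ k < 2, ∃ a ∈ ⁅⁅Ser 15, Ser 15⁆, Ser 15⁆, a * a = hv (tgtW.getD (k + 2) []) := by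
  intro k hk
  have hk' : k < witW.length := by
    have : witW.length = 2 := rfl
    omega
  have hb : ∀ i, below 15 ((witW.getD k []).getD i []) = true := by
    intro i
    rcases Nat.lt_or_ge i (witW.getD k []).length with h | h
    · rw [List.getD_eq_getElem _ _ h]
      exact List.all_eq_true.1 (List.all_eq_true.1 wit_below _ (by
        rw [List.getD_eq_getElem _ _ hk']; exact List.getElem_mem hk')) _ (List.getElem_mem h)
    · rw [List.getD_eq_default _ _ h]; rfl
  refine ⟨⁅⁅hv ((witW.getD k []).getD 0 []), hv ((witW.getD k []).getD 1 [])⁆, hv ((witW.getD k []).getD 2 [])⁆,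
    Subgroup.commutator_mem_commutator (Subgroup.commutator_mem_commutator (hv_mem (hb 0)) (hv_mem (hb 1)))
      (hv_mem (hb 2)), ?_⟩
  have h := eqV_spec (List.all_eq_true.1 wit_checks k (List.mem_range.2 hk))
  have l0 := flat_lt (hb 0)
  have l1 := flat_lt (hb 1)
  have hl : ∀ x ∈ commW (flat hW ((witW.getD k []).getD 0 [])) (flat hW ((witW.getD k []).getD 1 [])), x < 6 := by
    intro x hx
    simp only [commW, invW, List.mem_append, List.mem_reverse, List.mem_map] at hx
    rcases hx with ((hx | hx) | ⟨y, hy, rfl⟩) | ⟨y, hy, rfl⟩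
    · exact l0 x hx
    · exact l1 x hx
    · have := l0 y hy; unfold Outer.invL; interval_cases y <;> decide
    · have := l1 y hy; unfold Outer.invL; interval_cases y <;> decide
  rw [evK_append, tripleW, evK_commW hl (flat_lt (hb 2)), evK_commW l0 l1] at h
  exact h

end CfsgLib.RuAut.Invol
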